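import Cfsg.Agent.H630.RatB.Scheme
import Cfsg.Agent.H995.IMBRow

/-!
# S4891: the Baby Monster, `p = 3, 5, 23, 31, 47` (helper630)

The permutation character on the `13571955000` transpositions is `1 + 96255 + 9458750 + 4275362520 + 9287037474`.
-/

set_option autoImplicit false

namespace Cfsg.Agent.H630.RatB

open Cfsg Cfsg.Agent.Characters.Core Cfsg.Agent.H995.IMB Cfsg.Agent.H816.IMEig Cfsg.Agent.H995.BSch
open Cfsg.Agent.H145.BR Cfsg.Agent.H493.RatB Cfsg.Agent.BabyM.Inst
open scoped BigOperators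

universe u

/-- the rational spherical functions -/
def qq : Fin 4 → Fin 5 → ℚ := ![![1, 23/399, -7/228, 13/2128, -1/798], ![1, 29/2261, 7/1216, 61/1157632, -1/36176],
  ![1, 43/88179, -7/40128, -31/2315264, 47/15519504], ![1, -1/4199, 1/13376, 1/165376, -1/739024]]

theorem rat_w (i : Fin 4) (u : Fin 5) : ∃ q : ℚ, (![w0, w1, w2, w3] i : Fin 5 → ℂ) u = q := by
  refine ⟨qq i u, ?_⟩
  fin_cases i <;> fin_cases u <;> simp [w0, w1, w2, w3, qq]

theorem witR_model {p : ℕ} [hp : Fact p.Prime] (hd : p ∣ 13571955000) : WitR p M.G := by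
  obtain ⟨z₀, h1, h2⟩ := exists_z
  have hX : Nat.card (X M) = 13571955000 := card_X BabyM.Instance.all BabyM.Instance.tr
  refine witR_of_scheme ((Cfsg.Agent.H995.BSchVal.sch).isCol BabyM.Instance.all BabyM.Instance.tr) (x₀ := QuotientGroup.mk 1) (z₀ := z₀) h2
    (m := 4) ![228735, 50895, 1935, -945] ![w0, w1, w2, w3] (fun i => ?_) rat_w ![96255, 9458750, 4275362520, 9287037474]
    (fun i => ?_) (fun u => ?_) (by rw [hX]; exact hd)
  · rw [h1]
    fin_cases i
    · exact eig0
    · exact eig1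
    · exact eig2
    · exact eig3
  · rw [hX]
    fin_cases i <;> simp only [Fin.sum_univ_five] <;> simp [t, w0, w1, w2, w3] <;> norm_num
  · rw [hX]
    fin_cases u <;> simp [Fin.sum_univ_succ, w0, w1, w2, w3] <;> norm_num

/-- **The rows of the Baby Monster**, `p = 2, 3, 5, 23, 31, 47`. -/
theorem witR_b {p : ℕ} [hp : Fact p.Prime] (hd : p ∣ 13571955000) {S : Type u} [Group S]
    (h : Spor.IsoB S) : WitR p S := by
  obtain ⟨e⟩ := h
  have e' : S ≃* M.G := e.trans Cfsg.Agent.BM.KHAll.iso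
  have : Finite S := Finite.of_equiv _ e'.symm.toEquiv
  exact WitR.congr e' (witR_model hd)

theorem witR_b_three {S : Type u} [Group S] (h : Spor.IsoB S) : WitR 3 S := witR_b (by norm_num) h

theorem witR_b_five {S : Type u} [Group S] (h : Spor.IsoB S) : WitR 5 S :=
  haveI : Fact (Nat.Prime 5) := ⟨by norm_num⟩
  witR_b (by norm_num) h

theorem witS_b_three {S : Type u} [Group S] (h : Spor.IsoB S) : WitS 3 S := (witR_b_three h).witS

theorem witS_b_five {S : Type u} [Group S] (h : Spor.IsoB S) : WitS 5 S :=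
  haveI : Fact (Nat.Prime 5) := ⟨by norm_num⟩
  (witR_b_five h).witS

end Cfsg.Agent.H630.RatB
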