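import Cfsg.Agent.H702.BR.PairRow
import Cfsg.Agent.H823.B0R.Inst
import Cfsg.Agent.H713.Spor.Fi22
import Cfsg.Agent.H661.SporFi22
import Cfsg.Agent.H852.RatB.Gcd

/-!
# B0-RAT: `Fi22`, `p = 7, 11, 13` (helper630)

* `rowZ_seven` : `p = 7` (elements of order seven are real);
* `witZ` : `p = 11, 13`, the pair `(11, 13)` of the engine of helper602 (`FrobAll`: the Frobenius lemma); elements of
  order 13 are self centralizing, so there are no elements of order 143.
-/

set_option autoImplicit false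
set_option maxRecDepth 10000

open Subgroup

namespace Cfsg.Agent.H630.RatB.Fi22

open Cfsg Cfsg.Agent.H145.BR Cfsg.Agent.H602.B0R Cfsg.Agent.H493.RatB Cfsg.Agent.H702.BR
open Cfsg.Spor (Fi22)

universe u

theorem card_eq : Nat.card Fi22 = 2 ^ 17 * 3 ^ 9 * 5 ^ 2 * 7 * 11 * 13 := by
  rw [(Cfsg.Agent.LThreeFi22.Inst.ctx (MulEquiv.refl Fi22)).card]; norm_num

theorem finite : Finite Fi22 := Nat.finite_of_card_ne_zero (by rw [card_eq]; norm_num)

/-- **`Fi22`, `p = 7`** -/
theorem rowZ_seven {S : Type u} [Group S] [Finite S] (h : Spor.IsoFi22 S) : RowZ 7 S := by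
  obtain ⟨e⟩ := h
  obtain ⟨y, r, hy, -, hr⟩ := H661.Spor.Fi22.hasReal.map_equiv e.symm
  refine H852.RatB.rowZ_seven_of_real ?_ hy (isConj_iff.2 ⟨r, hr⟩)
  rw [Nat.card_congr e.toEquiv, card_eq]
  norm_num

theorem not_143 (g : Fi22) : orderOf g ≠ 11 * 13 := by
  intro hg
  have h1 : orderOf (g ^ 11) = 13 := by
    rw [orderOf_pow' g (by norm_num), hg]; norm_num
  have h2 := H713.Spor.Fi22.cent_13 (MulEquiv.refl Fi22) h1
  have h3 : g ∈ centralizer ({g ^ 11} : Set Fi22) :=
    mem_centralizer_singleton_iff.2 ((Commute.refl g).pow_right 11).eq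
  have h4 := Subgroup.orderOf_dvd_natCard _ h3
  rw [hg, h2] at h4
  norm_num at h4

theorem wit_11_13 (hf : FrobAll Fi22) : WitZ 11 Fi22 ∧ WitZ 13 Fi22 := by
  have := finite
  have : Fact (Nat.Prime 11) := ⟨by norm_num⟩
  have : Fact (Nat.Prime 13) := ⟨by norm_num⟩
  refine witZ_pair (L := []) (by norm_num) (by norm_num) (by norm_num) (by rw [card_eq]; norm_num) (by rw [card_eq]; norm_num)
    (by rw [card_eq]; norm_num) (by rw [card_eq]; norm_num)
    (fun P h => root_cond (by decide) (by norm_num) h) (fun P h => root_cond (by decide) (by norm_num) h) not_143 hf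
    (by simp) ?_
  rw [card_eq]
  exact H823.B0R.Fi22_11_13

/-- **`Fi22`, `p = 11, 13`** (`FrobAll`: the Frobenius lemma) -/
theorem witZ (hf : FrobAll Fi22) {p : ℕ} (hp : p = 11 ∨ p = 13) {S : Type u} [Group S]
    (h : Spor.IsoFi22 S) : WitZ p S := by
  obtain ⟨e⟩ := h
  have := finite
  have : Finite S := Finite.of_equiv _ e.symm.toEquiv
  rcases hp with rfl | rfl
  · exact (wit_11_13 hf).1.congr e
  · exact (wit_11_13 hf).2.congr e

end Cfsg.Agent.H630.RatB.Fi22
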